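/-
SE.R1: Peterfalvi part II, chapter I §1 and §2 Prop 1, in group-theoretic form.
`R1 H Q t` : `G = H ∪ H t Q`, `H = Q ⋊ D`, `|Q|` even, `|D|` odd.
-/
import Cfsg.Agent.SE.Emb
import Cfsg.Agent.H1.Thompson

set_option autoImplicit false

namespace SE
open Subgroup H9
variable {G : Type*} [Group G]

structure R1 (H Q : Subgroup G) (t : G) : Prop where
  tt : t * t = 1
  tH : t ∉ H
  le : Q ≤ H
  nm : H ≤ normalizer (Q : Set G)
  disj : ∀ x ∈ Q, t * x * t ∈ H → x = 1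
  dec : ∀ h ∈ H, ∃ x ∈ Q, ∃ d ∈ DD H t, h = x * d
  even : 2 ∣ Nat.card Q
  odd : Odd (Nat.card (DD H t))
  bru : ∀ g, g ∉ H → ∃ x ∈ H, ∃ y ∈ Q, g = x * t * y

/-- `V = C_D(t)` -/
def VV (H : Subgroup G) (t : G) : Subgroup G := DD H t ⊓ centralizer {t}
/-- `Ω₁(Z(Q))` -/
def Q0 (Q : Subgroup G) : Subgroup G where
  carrier := {x | x ∈ Q ∧ x * x = 1 ∧ ∀ y ∈ Q, x * y = y * x}
  one_mem' := ⟨Q.one_mem, one_mul 1, fun y _ => by simp⟩
  mul_mem' := by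
    rintro a b ⟨a1, a2, a3⟩ ⟨b1, b2, b3⟩
    refine ⟨Q.mul_mem a1 b1, ?_, fun y hy => ?_⟩
    · rw [show a * b * (a * b) = a * (b * a) * b by group, ← a3 b b1, show a * (a * b) * b = a * a * (b * b) by group,
        a2, b2, one_mul]
    · rw [mul_assoc, b3 y hy, ← mul_assoc, a3 y hy, mul_assoc]
  inv_mem' := by
    rintro a ⟨a1, a2, a3⟩
    rw [inv_eq_self a2]; exact ⟨a1, a2, a3⟩
/-- `W = C_D(Q₀)` -/
def WW (H Q : Subgroup G) (t : G) : Subgroup G := DD H t ⊓ centralizer (Q0 Q : Set G)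

theorem Q0_le (Q : Subgroup G) : Q0 Q ≤ Q := fun _ h => h.1
theorem Q0_comm {Q : Subgroup G} {x y : G} (hx : x ∈ Q0 Q) (hy : y ∈ Q) : x * y = y * x := hx.2.2 y hy
theorem Q0_sq {Q : Subgroup G} {x : G} (hx : x ∈ Q0 Q) : x * x = 1 := hx.2.1
theorem normalizer_Q0 {X Q : Subgroup G} (h : X ≤ normalizer (Q : Set G)) : X ≤ normalizer (Q0 Q : Set G) :=
  le_normalizer_of_cj_le fun g hg x hx => by
    rw [mem_cj] at hx
    have e : x = g * (g⁻¹ * x * g) * g⁻¹ := by group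
    generalize g⁻¹ * x * g = z at hx e
    subst e
    refine ⟨conj_mem_of_le_normalizer h hg hx.1, ?_, fun y hy => ?_⟩
    · rw [show g * z * g⁻¹ * (g * z * g⁻¹) = g * (z * z) * g⁻¹ by group, hx.2.1]; group
    · have := hx.2.2 _ (conj_mem_of_le_normalizer' h hg hy)
      rw [show g * z * g⁻¹ * y = g * (z * (g⁻¹ * y * g)) * g⁻¹ by group, this]; group

theorem mem_VV {H : Subgroup G} {t v : G} : v ∈ VV H t ↔ v ∈ DD H t ∧ v * t = t * v := by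
  rw [VV, mem_inf, mem_centralizer_singleton_iff]
theorem mem_VV' {H : Subgroup G} {t v : G} (ht : t * t = 1) : v ∈ VV H t ↔ v ∈ H ∧ t * v * t = v := by
  rw [mem_VV, mem_DD ht]
  constructor
  · rintro ⟨⟨h1, -⟩, h2⟩
    exact ⟨h1, by rw [← h2, mul_assoc, ht, mul_one]⟩
  · rintro ⟨h1, h2⟩
    exact ⟨⟨h1, by rw [h2]; exact h1⟩, by conv_lhs => rw [← h2, mul_assoc, ht, mul_one]⟩
theorem VV_le {H : Subgroup G} {t : G} : VV H t ≤ DD H t := inf_le_left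
theorem mem_WW {H Q : Subgroup G} {t w : G} : w ∈ WW H Q t ↔ w ∈ DD H t ∧ ∀ x ∈ Q0 Q, x * w = w * x := by
  rw [WW, mem_inf, mem_centralizer_iff]; rfl
theorem WW_le' {H Q : Subgroup G} {t : G} : WW H Q t ≤ DD H t := inf_le_left
theorem KK.conjV {H : Subgroup G} {t k v : G} (ht : t * t = 1) (h : k ∈ KK H t) (hv : v ∈ VV H t) :
    v * k * v⁻¹ ∈ KK H t := by
  have := KK.tw ht h (VV_le hv)
  rwa [((mem_VV' ht).1 hv).2] at this

open Classical in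
/-- the `Q`-part `f` in `t x t = g h t f` -/
noncomputable def ff (H Q : Subgroup G) (t x : G) : G :=
  if h : ∃ f ∈ Q, t * x * t * f⁻¹ * t ∈ H then h.choose else 1
/-- the `Q`-part `g` in `t x t = g h t f` -/
noncomputable def gg (H Q : Subgroup G) (t x : G) : G := (ff H Q t x⁻¹)⁻¹
/-- the `D`-part `h` in `t x t = g h t f` -/
noncomputable def hh (H Q : Subgroup G) (t x : G) : G := (gg H Q t x)⁻¹ * (t * x * t) * (ff H Q t x)⁻¹ * t

namespace R1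
variable {H Q : Subgroup G} {t : G} (h : R1 H Q t)
include h

theorem tinv : t⁻¹ = t := inv_eq_self h.tt
theorem tc (x : G) : t * (t * x) = x := tt_cancel h.tt x
theorem invt : Inv t := ⟨fun h1 => h.tH (h1 ▸ H.one_mem), h.tt⟩
theorem cQ {g x : G} (hg : g ∈ H) (hx : x ∈ Q) : g * x * g⁻¹ ∈ Q := conj_mem_of_le_normalizer h.nm hg hx
theorem cQ' {g x : G} (hg : g ∈ H) (hx : x ∈ Q) : g⁻¹ * x * g ∈ Q := conj_mem_of_le_normalizer' h.nm hg hx
theorem memD {x : G} : x ∈ DD H t ↔ x ∈ H ∧ t * x * t ∈ H := mem_DD h.tt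
theorem QD {x : G} (h1 : x ∈ Q) (h2 : x ∈ DD H t) : x = 1 := h.disj x h1 (h.memD.1 h2).2
theorem tD {x : G} (h1 : x ∈ DD H t) : t * x * t ∈ DD H t := DD_conj h.tt h1
theorem nmem {x y : G} (hx : x ∈ H) (hy : y ∈ H) : x * t * y ∉ H := fun h1 => h.tH (by
  have := H.mul_mem (H.mul_mem (H.inv_mem hx) h1) (H.inv_mem hy)
  simpa [mul_assoc] using this)

theorem uniq {x y x' y' : G} (hx : x ∈ H) (hy : y ∈ Q) (hx' : x' ∈ H) (hy' : y' ∈ Q)
    (e : x * t * y = x' * t * y') : x = x' ∧ y = y' := by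
  have h1 : y * y'⁻¹ = 1 := h.disj _ (Q.mul_mem hy (Q.inv_mem hy')) (by
    have : t * (y * y'⁻¹) * t = x⁻¹ * x' := by
      rw [show t * (y * y'⁻¹) * t = x⁻¹ * (x * t * y) * y'⁻¹ * t by group, e]
      simp only [mul_assoc, mul_inv_cancel_left, h.tt, mul_one]
    rw [this]; exact H.mul_mem (H.inv_mem hx) hx')
  have h2 : y = y' := mul_inv_eq_one.1 h1
  subst h2
  exact ⟨mul_right_cancel (mul_right_cancel e), rfl⟩

theorem uniqQD {x d x' d' : G} (hx : x ∈ Q) (hd : d ∈ DD H t) (hx' : x' ∈ Q) (hd' : d' ∈ DD H t)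
    (e : x * d = x' * d') : x = x' ∧ d = d' := by
  have h1 : x'⁻¹ * x = 1 := h.QD (Q.mul_mem (Q.inv_mem hx') hx) (by
    rw [show x'⁻¹ * x = x'⁻¹ * (x * d) * d⁻¹ by group, e]
    simpa using (DD H t).mul_mem hd' ((DD H t).inv_mem hd))
  have h2 : x' = x := inv_mul_eq_one.1 h1
  subst h2
  exact ⟨rfl, mul_left_cancel e⟩

theorem ti {x g : G} (hx : x ∈ Q) (h1 : x ≠ 1) (h2 : g * x * g⁻¹ ∈ H) : g ∈ H := by
  by_contra h3
  obtain ⟨a, ha, y, hy, rfl⟩ := h.bru g h3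
  have : y * x * y⁻¹ = 1 := h.disj _ (h.cQ (h.le hy) hx) (by
    have e : t * (y * x * y⁻¹) * t = a⁻¹ * (a * t * y * x * (a * t * y)⁻¹) * a := by
      simp only [mul_inv_rev, h.tinv]; group
    rw [e]; exact H.mul_mem (H.mul_mem (H.inv_mem ha) h2) ha)
  apply h1
  rw [show x = y⁻¹ * (y * x * y⁻¹) * y by group, this]; group

theorem cent {x g : G} (hx : x ∈ Q) (h1 : x ≠ 1) (h2 : g * x = x * g) : g ∈ H :=
  h.ti hx h1 (by rw [h2]; simpa using h.le hx)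

theorem pow_dec {x d : G} (hx : x ∈ Q) (hd : d ∈ H) (n : ℕ) : ∃ y ∈ Q, (x * d) ^ n = y * d ^ n := by
  induction n with
  | zero => exact ⟨1, Q.one_mem, by simp⟩
  | succ n ih =>
    obtain ⟨y, hy, e⟩ := ih
    exact ⟨y * (d ^ n * x * (d ^ n)⁻¹), Q.mul_mem hy (h.cQ (H.pow_mem hd n) hx), by rw [pow_succ, e]; group⟩

theorem memQ_of_pow {x : G} (hx : x ∈ H) {n : ℕ} (hn : (Nat.card (DD H t)).Coprime n) (h1 : x ^ n ∈ Q) : x ∈ Q := by
  obtain ⟨y, hy, d, hd, rfl⟩ := h.dec x hx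
  obtain ⟨z, hz, e⟩ := h.pow_dec hy (DD_le hd) n
  have h2 : d ^ n = 1 := h.QD (by
    rw [e] at h1; simpa using Q.mul_mem (Q.inv_mem hz) h1) ((DD H t).pow_mem hd n)
  have h3 : orderOf d ∣ Nat.card (DD H t) := by
    have := orderOf_dvd_natCard (⟨d, hd⟩ : DD H t)
    rwa [← Subgroup.orderOf_coe] at this
  have h4 : d = 1 := orderOf_eq_one_iff.1 (Nat.eq_one_of_dvd_coprimes hn h3 (orderOf_dvd_of_pow_eq_one h2))
  rw [h4, mul_one]; exact hy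

theorem invQ {s : G} (hs : s ∈ H) (h1 : s * s = 1) : s ∈ Q :=
  h.memQ_of_pow hs (n := 2) h.odd.coprime_two_right (by rw [pow_two, h1]; exact Q.one_mem)

theorem two_le_Q {X : Subgroup G} (hX : X ≤ H) (h2 : IsPGroup 2 X) : X ≤ Q := fun x hx => by
  obtain ⟨n, hn⟩ := h2 ⟨x, hx⟩
  refine h.memQ_of_pow (hX hx) (n := 2 ^ n) (h.odd.coprime_two_right.pow_right n) ?_
  have : x ^ 2 ^ n = 1 := congrArg Subtype.val hn
  rw [this]; exact Q.one_mem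

theorem emb [Finite G] : Emb H := by
  obtain ⟨s, hs, h1⟩ := exists_inv_of_even h.even
  exact ⟨⟨s, h.le hs, h1⟩, fun s hs h1 g hg => h.ti (h.invQ hs h1.2) h1.1 hg,
    fun h2 => h.tH (h2 ▸ mem_top t)⟩

theorem card_H [Finite G] : Nat.card H = Nat.card Q * Nat.card (DD H t) := by
  rw [← Nat.card_prod]
  refine (Nat.card_congr (Equiv.ofBijective (fun p : Q × DD H t => (⟨p.1 * p.2, H.mul_mem (h.le p.1.2) (DD_le p.2.2)⟩ : H))
    ⟨fun p p' e => ?_, fun x => ?_⟩)).symm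
  · obtain ⟨e1, e2⟩ := h.uniqQD p.1.2 p.2.2 p'.1.2 p'.2.2 (congrArg Subtype.val e)
    exact Prod.ext (Subtype.ext e1) (Subtype.ext e2)
  · obtain ⟨y, hy, d, hd, e⟩ := h.dec x x.2
    exact ⟨(⟨y, hy⟩, ⟨d, hd⟩), Subtype.ext e.symm⟩

theorem card_G [Finite G] : Nat.card G = Nat.card H * (Nat.card Q + 1) := by
  classical
  have e : Nat.card G = Nat.card (H ⊕ H × Q) := by
    refine (Nat.card_congr (Equiv.ofBijective (fun p : H ⊕ H × Q => Sum.elim (fun x : H => (x : G))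
      (fun p : H × Q => (p.1 : G) * t * p.2) p) ⟨?_, fun g => ?_⟩)).symm
    · rintro (x | p) (y | p') e
      · exact congrArg _ (Subtype.ext e)
      · exact absurd (show (p'.1 : G) * t * p'.2 ∈ H by rw [← show (x : G) = p'.1 * t * p'.2 from e]; exact x.2) (h.nmem p'.1.2 (h.le p'.2.2))
      · exact absurd (show (p.1 : G) * t * p.2 ∈ H by rw [show (p.1 : G) * t * p.2 = (y : G) from e]; exact y.2) (h.nmem p.1.2 (h.le p.2.2))
      · obtain ⟨e1, e2⟩ := h.uniq p.1.2 p.2.2 p'.1.2 p'.2.2 e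
        exact congrArg _ (Prod.ext (Subtype.ext e1) (Subtype.ext e2))
    · by_cases hg : g ∈ H
      · exact ⟨Sum.inl ⟨g, hg⟩, rfl⟩
      · obtain ⟨x, hx, y, hy, e⟩ := h.bru g hg
        exact ⟨Sum.inr (⟨x, hx⟩, ⟨y, hy⟩), e.symm⟩
  rw [e, Nat.card_sum, Nat.card_prod]; ring

theorem index_H [Finite G] : H.index = Nat.card Q + 1 := by
  have := H.card_mul_index
  rw [h.card_G] at this
  exact Nat.eq_of_mul_eq_mul_left Nat.card_pos this

theorem index_Q [Finite G] : Q.index = Nat.card (DD H t) * (Nat.card Q + 1) := by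
  have := Q.card_mul_index
  rw [h.card_G, h.card_H, mul_assoc] at this
  exact Nat.eq_of_mul_eq_mul_left Nat.card_pos this

theorem odd_index_Q [Finite G] : Odd Q.index := by
  rw [h.index_Q]; exact h.odd.mul ((even_iff_two_dvd.2 h.even).add_one)

/-! ### the functions `f`, `g`, `h` -/

theorem ex_fgh {x : G} (hx : x ∈ Q) (h1 : x ≠ 1) : ∃ g ∈ Q, ∃ d ∈ DD H t, ∃ f ∈ Q, t * x * t = g * d * t * f := by
  obtain ⟨a, ha, f, hf, e⟩ := h.bru (t * x * t) (fun h2 => h1 (h.disj x hx h2))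
  obtain ⟨g, hg, d, hd, rfl⟩ := h.dec a ha
  exact ⟨g, hg, d, hd, f, hf, e⟩

theorem ff_eq {x a f : G} (ha : a ∈ H) (hf : f ∈ Q) (e : t * x * t = a * t * f) : ff H Q t x = f := by
  have h1 : ∃ f ∈ Q, t * x * t * f⁻¹ * t ∈ H := ⟨f, hf, by
    rw [e]; simpa only [mul_assoc, mul_inv_cancel_left, h.tt, mul_one] using ha⟩
  rw [ff, dif_pos h1]
  refine (h.uniq h1.choose_spec.2 h1.choose_spec.1 ha hf ?_).2
  rw [← e]; simp only [mul_assoc, h.tc, inv_mul_cancel, mul_one]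

theorem fgh_eq {x g d f : G} (hg : g ∈ Q) (hd : d ∈ DD H t) (hf : f ∈ Q) (e : t * x * t = g * d * t * f) :
    ff H Q t x = f ∧ gg H Q t x = g ∧ hh H Q t x = d := by
  have h1 := h.ff_eq (H.mul_mem (h.le hg) (DD_le hd)) hf e
  have h2 : gg H Q t x = g := by
    rw [gg, h.ff_eq (x := x⁻¹) (a := f⁻¹ * (t * d⁻¹ * t)) (f := g⁻¹)
      (H.mul_mem (H.inv_mem (h.le hf)) (DD_le (h.tD ((DD H t).inv_mem hd)))) (Q.inv_mem hg) ?_, inv_inv]
    rw [show t * x⁻¹ * t = (t * x * t)⁻¹ by simp only [mul_inv_rev, h.tinv, mul_assoc], e]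
    simp only [mul_inv_rev, h.tinv, mul_assoc, h.tc]
  refine ⟨h1, h2, ?_⟩
  rw [hh, h1, h2, e]; simp only [mul_assoc, mul_inv_cancel_left, inv_mul_cancel_left, h.tt, mul_one]

theorem spec {x : G} (hx : x ∈ Q) (h1 : x ≠ 1) : ff H Q t x ∈ Q ∧ gg H Q t x ∈ Q ∧ hh H Q t x ∈ DD H t ∧
    t * x * t = gg H Q t x * hh H Q t x * t * ff H Q t x := by
  obtain ⟨g, hg, d, hd, f, hf, e⟩ := h.ex_fgh hx h1
  obtain ⟨e1, e2, e3⟩ := h.fgh_eq hg hd hf e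
  rw [e1, e2, e3]; exact ⟨hf, hg, hd, e⟩

theorem ff_mem {x : G} (hx : x ∈ Q) (h1 : x ≠ 1) : ff H Q t x ∈ Q := (h.spec hx h1).1
theorem gg_mem {x : G} (hx : x ∈ Q) (h1 : x ≠ 1) : gg H Q t x ∈ Q := (h.spec hx h1).2.1
theorem hh_mem {x : G} (hx : x ∈ Q) (h1 : x ≠ 1) : hh H Q t x ∈ DD H t := (h.spec hx h1).2.2.1
theorem txt {x : G} (hx : x ∈ Q) (h1 : x ≠ 1) : t * x * t = gg H Q t x * hh H Q t x * t * ff H Q t x :=
  (h.spec hx h1).2.2.2

theorem ff_ne {x : G} (hx : x ∈ Q) (h1 : x ≠ 1) : ff H Q t x ≠ 1 := fun h2 => by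
  have e := h.txt hx h1
  rw [h2, mul_one] at e
  refine h.nmem H.one_mem (h.le hx) ?_
  rw [one_mul, mul_right_cancel e]
  exact H.mul_mem (h.le (h.gg_mem hx h1)) (DD_le (h.hh_mem hx h1))
theorem gg_ne {x : G} (hx : x ∈ Q) (h1 : x ≠ 1) : gg H Q t x ≠ 1 :=
  inv_ne_one.2 (h.ff_ne (Q.inv_mem hx) (inv_ne_one.2 h1))

theorem fgh_ff {x : G} (hx : x ∈ Q) (h1 : x ≠ 1) : ff H Q t (ff H Q t x) = x ∧
    gg H Q t (ff H Q t x) = (hh H Q t x)⁻¹ * (gg H Q t x)⁻¹ * hh H Q t x ∧ hh H Q t (ff H Q t x) = (hh H Q t x)⁻¹ := by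
  obtain ⟨hf, hg, hd, e⟩ := h.spec hx h1
  refine h.fgh_eq (h.cQ' (DD_le hd) (Q.inv_mem hg)) ((DD H t).inv_mem hd) hx ?_
  generalize ff H Q t x = f at *; generalize gg H Q t x = g at *; generalize hh H Q t x = d at *
  rw [show d⁻¹ * g⁻¹ * d * d⁻¹ * t * x = d⁻¹ * g⁻¹ * (t * x * t) * t by simp only [mul_assoc, h.tt, mul_one, mul_inv_cancel_left], e]
  group
theorem ff_ff {x : G} (hx : x ∈ Q) (h1 : x ≠ 1) : ff H Q t (ff H Q t x) = x := (h.fgh_ff hx h1).1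
theorem hh_ff {x : G} (hx : x ∈ Q) (h1 : x ≠ 1) : hh H Q t (ff H Q t x) = (hh H Q t x)⁻¹ := (h.fgh_ff hx h1).2.2
theorem ff_inv (x : G) : ff H Q t x⁻¹ = (gg H Q t x)⁻¹ := by rw [gg, inv_inv]
theorem gg_inv (x : G) : gg H Q t x⁻¹ = (ff H Q t x)⁻¹ := by rw [gg, inv_inv]
theorem hh_inv {x : G} (hx : x ∈ Q) (h1 : x ≠ 1) : hh H Q t x⁻¹ = t * (hh H Q t x)⁻¹ * t := by
  obtain ⟨hf, hg, hd, e⟩ := h.spec hx h1
  refine (h.fgh_eq (Q.inv_mem hf) (h.tD ((DD H t).inv_mem hd)) (Q.inv_mem hg) ?_).2.2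
  rw [show t * x⁻¹ * t = (t * x * t)⁻¹ by simp only [mul_inv_rev, h.tinv, mul_assoc], e]
  simp only [mul_inv_rev, h.tinv, mul_assoc, h.tc]

theorem fgh_conj {x a : G} (hx : x ∈ Q) (h1 : x ≠ 1) (ha : a ∈ DD H t) :
    ff H Q t (a * x * a⁻¹) = (t * a * t) * ff H Q t x * (t * a * t)⁻¹ ∧
    gg H Q t (a * x * a⁻¹) = (t * a * t) * gg H Q t x * (t * a * t)⁻¹ ∧
    hh H Q t (a * x * a⁻¹) = (t * a * t) * hh H Q t x * a⁻¹ := by
  obtain ⟨hf, hg, hd, e⟩ := h.spec hx h1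
  have hb := h.tD ha
  refine h.fgh_eq (h.cQ (DD_le hb) hg) ((DD H t).mul_mem ((DD H t).mul_mem hb hd) ((DD H t).inv_mem ha))
    (h.cQ (DD_le hb) hf) ?_
  rw [show t * (a * x * a⁻¹) * t = (t * a * t) * (t * x * t) * (t * a * t)⁻¹ by
    simp only [mul_inv_rev, h.tinv, mul_assoc, h.tc], e]
  simp only [mul_inv_rev, h.tinv, mul_assoc, h.tc, inv_mul_cancel_left]

theorem fg_ne {x y : G} (hx : x ∈ Q) (h1 : x ≠ 1) (hy : y ∈ Q) (h2 : y ≠ 1) (h3 : x * y ≠ 1) :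
    ff H Q t x * gg H Q t y ≠ 1 := fun h4 => by
  have e : ff H Q t x = ff H Q t y⁻¹ := by rw [h.ff_inv, eq_inv_iff_mul_eq_one, h4]
  have := congrArg (ff H Q t) e
  rw [h.ff_ff hx h1, h.ff_ff (Q.inv_mem hy) (inv_ne_one.2 h2)] at this
  exact h3 (by rw [this, inv_mul_cancel])

theorem fgh_mul {x y : G} (hx : x ∈ Q) (h1 : x ≠ 1) (hy : y ∈ Q) (h2 : y ≠ 1) (h3 : x * y ≠ 1) :
    ff H Q t (x * y) = (t * hh H Q t y * t)⁻¹ * ff H Q t (ff H Q t x * gg H Q t y) * (t * hh H Q t y * t) * ff H Q t y ∧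
    gg H Q t (x * y) = gg H Q t x * (hh H Q t x * gg H Q t (ff H Q t x * gg H Q t y) * (hh H Q t x)⁻¹) ∧
    hh H Q t (x * y) = hh H Q t x * hh H Q t (ff H Q t x * gg H Q t y) * hh H Q t y := by
  obtain ⟨hf, hg, hd, e⟩ := h.spec hx h1
  obtain ⟨hf', hg', hd', e'⟩ := h.spec hy h2
  obtain ⟨hf'', hg'', hd'', e''⟩ := h.spec (Q.mul_mem hf hg') (h.fg_ne hx h1 hy h2 h3)
  refine h.fgh_eq (Q.mul_mem hg (h.cQ (DD_le hd) hg'')) ((DD H t).mul_mem ((DD H t).mul_mem hd hd'') hd')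
    (Q.mul_mem (h.cQ' (DD_le (h.tD hd')) hf'') hf') ?_
  generalize ff H Q t (ff H Q t x * gg H Q t y) = f3 at *
  generalize gg H Q t (ff H Q t x * gg H Q t y) = g3 at *
  generalize hh H Q t (ff H Q t x * gg H Q t y) = d3 at *
  generalize ff H Q t x = f1 at *; generalize gg H Q t x = g1 at *; generalize hh H Q t x = d1 at *
  generalize ff H Q t y = f2 at *; generalize gg H Q t y = g2 at *; generalize hh H Q t y = d2 at *
  rw [show t * (x * y) * t = (t * x * t) * (t * y * t) by simp only [mul_assoc, h.tc], e, e',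
    show g1 * d1 * t * f1 * (g2 * d2 * t * f2) = g1 * d1 * (t * (f1 * g2) * t) * (t * d2 * t) * f2 by
      simp only [mul_assoc, h.tc], e'']
  simp only [mul_inv_rev, h.tinv, mul_assoc, h.tc, inv_mul_cancel_left, mul_inv_cancel_left]

/-! ### the structure equation -/

/-- `(s, r)` satisfies the structure equation -/
def _root_.SE.SR (H Q : Subgroup G) (t s r : G) : Prop := s ∈ H ∧ Inv s ∧ r ∈ Q ∧ t * s * t = r⁻¹ * t * r

theorem K_odd {k : G} (hk : k ∈ KK H t) : Odd (orderOf k) := odd_orderOf h.odd (KK.mem h.tt hk)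

theorem K_sqrt {k : G} (hk : k ∈ KK H t) : ∃ a ∈ KK H t, a * a = k ∧ a ∈ zpowers k := by
  obtain ⟨n, hn⟩ := exists_sqrt (h.K_odd hk)
  exact ⟨_, KK.pow h.tt hk n, hn, pow_mem (mem_zpowers k) n⟩

/-- involutions outside `H` -/
theorem inv_out {u : G} (hu : u ∉ H) (h1 : u * u = 1) : ∃ k ∈ KK H t, ∃ y ∈ Q, u = y⁻¹ * (k * t) * y := by
  obtain ⟨x, hx, y, hy, rfl⟩ := h.bru u hu
  refine ⟨y * x, ⟨H.mul_mem (h.le hy) hx, ?_⟩, y, hy, by group⟩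
  rw [eq_inv_iff_mul_eq_one, show t * (y * x) * t * (y * x) = x⁻¹ * (x * t * y * (x * t * y)) * x by group, h1]; group

theorem exists_SR [Finite G] : ∃ s r, SR H Q t s r := by
  obtain ⟨s, hs, h1⟩ := h.emb.ex
  have h2 := h.emb.not_mem_conj hs h1 h.tH
  have h3 := (h1.conj t).2
  rw [h.tinv] at h2 h3
  obtain ⟨k, hk, y, hy, e⟩ := h.inv_out h2 h3
  obtain ⟨a, ha, rfl, -⟩ := h.K_sqrt hk
  refine ⟨a * s * a⁻¹, a⁻¹ * y * a, H.mul_mem (H.mul_mem ha.1 hs) (H.inv_mem ha.1), h1.conj a, h.cQ' ha.1 hy, ?_⟩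
  rw [show t * (a * s * a⁻¹) * t = t * a * s * (a⁻¹ * t) by group, KK.tk h.tt ha, ← KK.tk h.tt ha,
    show t * a * s * (t * a) = t * a * t * (t * s * t) * a by simp only [mul_assoc, h.tc], ha.2, e,
    show a * a * t = a * (a * t) by group, KK.kt h.tt ha]
  group

theorem SR_fgh {s r : G} (hs : SR H Q t s r) : ff H Q t s = r ∧ gg H Q t s = r⁻¹ ∧ hh H Q t s = 1 :=
  h.fgh_eq (Q.inv_mem hs.2.2.1) (DD H t).one_mem hs.2.2.1 (by rw [hs.2.2.2, mul_one])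

theorem SR_unique [Finite G] {s r s' r' : G} (h1 : SR H Q t s r) (h2 : SR H Q t s' r') : s = s' ∧ r = r' := by
  obtain ⟨a, ha, rfl⟩ := h.emb.K_trans h.tt h.tH h1.1 h1.2.1 h2.1 h2.2.1
  have e1 := (h.fgh_conj (h.invQ h1.1 h1.2.1.2) h1.2.1.1 (KK.mem h.tt ha)).2.2
  rw [(h.SR_fgh h2).2.2, (h.SR_fgh h1).2.2, ha.2, mul_one, ← mul_inv_rev, eq_comm, inv_eq_one] at e1
  have := eq_one_of_sq (h.K_odd ha) e1
  subst this
  simp only [one_mul, inv_one, mul_one] at h2 ⊢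
  exact ⟨trivial, by rw [← (h.SR_fgh h1).1, (h.SR_fgh h2).1]⟩

theorem SR_V [Finite G] {s r v : G} (h1 : SR H Q t s r) (hv : v ∈ VV H t) : v * s = s * v ∧ v * r = r * v := by
  have h2 := (mem_VV' h.tt).1 hv
  have h3 := (mem_VV.1 hv).2
  have h4 : SR H Q t (v * s * v⁻¹) (v * r * v⁻¹) := by
    refine ⟨H.mul_mem (H.mul_mem h2.1 h1.1) (H.inv_mem h2.1), h1.2.1.conj v, h.cQ h2.1 h1.2.2.1, ?_⟩
    have e : t = v * t * v⁻¹ := by rw [h3]; group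
    rw [e, show v * t * v⁻¹ * (v * s * v⁻¹) * (v * t * v⁻¹) = v * (t * s * t) * v⁻¹ by group, h1.2.2.2]; group
  obtain ⟨e1, e2⟩ := h.SR_unique h1 h4
  exact ⟨by conv_rhs => rw [e1]
            group, by conv_rhs => rw [e2]
                      group⟩

theorem D_dec {d : G} (hd : d ∈ DD H t) : ∃ v ∈ VV H t, ∃ k ∈ KK H t, d = v * k := by
  obtain ⟨v, hv, k, hk, e1, e2, e3⟩ := exists_dec h.odd h.tt (fun x hx => h.tD hx) hd
  exact ⟨v, (mem_VV' h.tt).2 ⟨DD_le hv, e1⟩, k, ⟨DD_le hk, e2⟩, e3⟩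

theorem V_of_s [Finite G] {s r d : G} (h1 : SR H Q t s r) (hd : d ∈ DD H t) (e : d * s = s * d) : d ∈ VV H t := by
  obtain ⟨v, hv, k, hk, rfl⟩ := h.D_dec hd
  have : k = 1 := h.emb.K_fpf h.tt h.tH h1.1 h1.2.1 hk (by
    have := (h.SR_V h1 hv).1
    rw [← mul_assoc, ← this, mul_assoc, mul_assoc] at e
    exact mul_left_cancel e)
  rw [this, mul_one]; exact hv

/-- Prop 6 : a subset of `D` centralizing a non-identity element of `Q` is conjugate into `V` -/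
theorem conj_V [Finite G] {X : Set G} (hX : ∀ x ∈ X, x ∈ DD H t) {y : G} (hy : y ∈ Q) (h1 : y ≠ 1)
    (hc : ∀ x ∈ X, x * y = y * x) : ∃ k ∈ KK H t, ∀ x ∈ X, k⁻¹ * x * k ∈ VV H t := by
  have hd := h.hh_mem hy h1
  set d := hh H Q t y with hdd
  have c1 : ∀ x ∈ X, Commute x (t * d) := fun x hx => by
    have := (h.fgh_conj hy h1 (hX x hx)).2.2
    rw [hc x hx, mul_inv_cancel_right, ← hdd] at this
    show x * (t * d) = t * d * x
    conv_rhs => rw [this]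
    simp only [mul_assoc, h.tc, inv_mul_cancel, mul_one]
  have h2 : t * d * (t * d) ∈ DD H t := by
    rw [← mul_assoc]; exact (DD H t).mul_mem (h.tD hd) hd
  obtain ⟨m, hm⟩ := odd_orderOf h.odd h2
  have h3 : (t * d) ^ (2 * m + 1) * (t * d) ^ (2 * m + 1) = 1 := by
    rw [← Commute.mul_pow (Commute.refl _), ← hm, pow_orderOf_eq_one]
  have h4 : (t * d) ^ (2 * m + 1) * t ∈ KK H t := by
    refine ⟨?_, ?_⟩
    · rw [pow_succ, pow_mul, pow_two, mul_assoc]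
      exact DD_le ((DD H t).mul_mem ((DD H t).pow_mem h2 m) (h.tD hd))
    · simp only [mul_inv_rev, h.tinv, inv_eq_self h3, mul_assoc, h.tt, mul_one]
  obtain ⟨a, ha, e, -⟩ := h.K_sqrt h4
  refine ⟨a, ha, fun x hx => mem_VV.2 ⟨(DD H t).mul_mem ((DD H t).mul_mem ((DD H t).inv_mem (KK.mem h.tt ha))
    (hX x hx)) (KK.mem h.tt ha), ?_⟩⟩
  have e2 : (t * d) ^ (2 * m + 1) = a * t * a⁻¹ := by
    rw [mul_assoc, ← KK.kt h.tt ha, ← mul_assoc, e, mul_assoc, h.tt, mul_one]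
  have e3 : x * (a * t * a⁻¹) = (a * t * a⁻¹) * x := e2 ▸ ((c1 x hx).pow_right _)
  rw [show a⁻¹ * x * a * t = a⁻¹ * (x * (a * t * a⁻¹)) * a by group, e3]; group

theorem K_fpf [Finite G] {k y : G} (hk : k ∈ KK H t) (hy : y ∈ Q) (h1 : y ≠ 1) (e : k * y = y * k) : k = 1 := by
  obtain ⟨s, r, hs⟩ := h.exists_SR
  obtain ⟨a, ha, h2⟩ := h.conj_V (X := {k}) (fun x hx => hx ▸ KK.mem h.tt hk) hy h1 (fun x hx => hx ▸ e)
  have h3 := (h.SR_V hs (h2 k rfl)).1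
  refine h.emb.K_fpf h.tt h.tH (H.mul_mem (H.mul_mem ha.1 hs.1) (H.inv_mem ha.1)) (hs.2.1.conj a) hk ?_
  rw [show k * (a * s * a⁻¹) = a * (a⁻¹ * k * a * s) * a⁻¹ by group, h3]; group

theorem card_D [Finite G] : Nat.card (DD H t) = Nat.card (VV H t) * Nat.card (KK H t) := by
  rw [← Nat.card_prod]
  refine (Nat.card_congr (Equiv.ofBijective (fun p : VV H t × KK H t =>
    (⟨p.1 * p.2, (DD H t).mul_mem (VV_le p.1.2) (KK.mem h.tt p.2.2)⟩ : DD H t)) ⟨fun p p' e => ?_, fun x => ?_⟩)).symm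
  · obtain ⟨e1, e2⟩ := dec_unique h.odd h.tt (KK.mem h.tt p.2.2) (KK.mem h.tt p'.2.2) ((mem_VV' h.tt).1 p.1.2).2
      p.2.2.2 ((mem_VV' h.tt).1 p'.1.2).2 p'.2.2.2 (congrArg Subtype.val e)
    exact Prod.ext (Subtype.ext e1) (Subtype.ext e2)
  · obtain ⟨y, hy, d, hd, e⟩ := h.D_dec x.2
    exact ⟨(⟨y, hy⟩, ⟨d, hd⟩), Subtype.ext e.symm⟩

end R1

/-- `H` has at least two involutions -/
def Two (H : Subgroup G) : Prop := ∃ x ∈ H, ∃ y ∈ H, Inv x ∧ Inv y ∧ x ≠ y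

structure R2 (H Q : Subgroup G) (t : G) : Prop extends R1 H Q t where
  two : Two H

theorem Emb.two_of [Finite G] {H : Subgroup G} (h : Emb H) {x y : G} (hx : Inv x) (hy : Inv y) (h1 : x ≠ y)
    (h2 : x * y = y * x) : Two H := by
  obtain ⟨s, hs, h3⟩ := h.ex
  obtain ⟨g, rfl⟩ := h.conj_inv hx h3
  refine ⟨_, hs, _, h.cent hs h3 (g := g * y * g⁻¹) ?_, h3, hy.conj g, fun e => h1 ?_⟩
  · rw [show g * y * g⁻¹ * (g * x * g⁻¹) = g * (y * x) * g⁻¹ by group, ← h2]; group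
  · exact mul_left_cancel (mul_right_cancel e)

namespace R2
variable {H Q : Subgroup G} {t : G} [Finite G] (h : R2 H Q t)
include h

theorem exists_K : ∃ k ∈ KK H t, k ≠ 1 := by
  obtain ⟨x, hx, y, hy, h1, h2, h3⟩ := h.two
  obtain ⟨k, hk, e⟩ := h.emb.K_trans h.tt h.tH hx h1 hy h2
  exact ⟨k, hk, fun h4 => h3 (by rw [← e, h4]; group)⟩

theorem nil : Group.IsNilpotent Q := by
  obtain ⟨k, hk, h1⟩ := h.exists_K
  refine H1.isNilpotent_of_fpf (A := zpowers k) ((zpowers_le.2 hk.1).trans h.nm) ?_ (by simpa using h1)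
  refine H1.fpf_iff.2 fun a ha y hy e => ?_
  by_contra h3
  push Not at h3
  obtain ⟨n, rfl⟩ := mem_powers_iff_mem_zpowers.2 ha
  exact h3.1 (h.K_fpf (KK.pow h.tt hk n) hy h3.2 e)

theorem mem_Q0 {x : G} (hx : x ∈ H) (h1 : x * x = 1) : x ∈ Q0 Q := by
  haveI : Fact (Nat.Prime 2) := ⟨Nat.prime_two⟩
  by_cases h2 : x = 1
  · rw [h2]; exact one_mem _
  have hn := h.nil
  obtain ⟨z, hz, h3⟩ : ∃ z ∈ Q0 Q, Inv z := by
    have hS := syl_Op_of_nilpotent (p := 2) hn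
    have hne : Op 2 Q ≠ ⊥ := fun e => hS.not_dvd (by
      rw [e, relIndex_bot_left]; exact h.even)
    have h4 := inf_centralizer_ne_bot_of_nilpotent hn (Op_le 2 Q) (le_normalizer_Op 2 Q) hne
    have h5 : IsPGroup 2 (Op 2 Q ⊓ centralizer (Q : Set G) : Subgroup G) := hS.isP.to_le inf_le_left
    obtain ⟨n, e⟩ := IsPGroup.iff_card.1 h5
    have : 2 ∣ Nat.card (Op 2 Q ⊓ centralizer (Q : Set G) : Subgroup G) := by
      rw [e]; refine dvd_pow_self 2 fun h0 => h4 ?_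
      rw [h0, pow_zero] at e; exact card_eq_one.1 e
    obtain ⟨z, hz, h3⟩ := exists_inv_of_even this
    exact ⟨z, ⟨Op_le 2 Q hz.1, h3.2, fun y hy => (mem_centralizer_iff.1 hz.2 y hy).symm⟩, h3⟩
  obtain ⟨k, hk, rfl⟩ := h.emb.K_trans h.tt h.tH (h.le hz.1) h3 hx ⟨h2, h1⟩
  exact conj_mem_of_le_normalizer (normalizer_Q0 h.nm) hk.1 hz

end R2
end SE
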