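/-
SE.Br: bridge from the frozen definitions (`IsRankOneSetup`, `IsStronglyEmbedded`) to `R1`, `Emb`.
-/
import Cfsg.Agent.SE.R1
import Cfsg.Prelude.Def_LieRecognition
import Cfsg.Prelude.Def_Involutions

set_option autoImplicit false

namespace SE
open Subgroup H9 MulAction
variable {G : Type*} [Group G]

theorem emb_iff [Finite G] {H : Subgroup G} : Cfsg.IsStronglyEmbedded H ↔ Emb H := by
  constructor
  · rintro ⟨h1, h2, h3⟩
    refine ⟨exists_inv_of_even (even_iff_two_dvd.1 h2), fun s hs h4 g hg => ?_, h1⟩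
    by_contra h5
    have := even_of_inv (X := H ⊓ H.map (MulAut.conj g).toMonoidHom) ⟨hg, s, hs, rfl⟩ (h4.conj g)
    exact (Nat.not_even_iff_odd.2 (h3 g h5)) (even_iff_two_dvd.2 this)
  · intro h
    obtain ⟨s, hs, h1⟩ := h.ex
    refine ⟨h.ne, even_iff_two_dvd.2 (even_of_inv hs h1), fun g hg => odd_of_no_inv ?_⟩
    rintro _ ⟨h2, x, hx, rfl⟩ h3
    have h4 : Inv x := by
      have := h3.conj' g
      simpa [mul_assoc] using this
    exact hg (h.ti x hx h4 g h2)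

theorem pow_mul_mem {X : Subgroup G} {z w : G} (hz : z ∈ normalizer (X : Set G)) (hw : w ∈ X) (n : ℕ) :
    ∃ w' ∈ X, (z * w) ^ n = z ^ n * w' := by
  induction n with
  | zero => exact ⟨1, X.one_mem, by simp⟩
  | succ n ih =>
    obtain ⟨y, hy, e⟩ := ih
    exact ⟨z⁻¹ * y * z * w, X.mul_mem (conj_mem_of_le_normalizer' le_rfl hz hy) hw, by rw [pow_succ, e]; group⟩

/-- an odd order subgroup normalized by a four-group of `H` lies in `H` -/
theorem Emb.odd_le [Finite G] {H X : Subgroup G} (h : Emb H) {x y : G} (hx : x ∈ H) (hy : y ∈ H) (h1 : Inv x)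
    (h2 : Inv y) (h3 : x ≠ y) (h4 : x * y = y * x) (hX : Odd (Nat.card X)) (nx : x ∈ normalizer (X : Set G))
    (ny : y ∈ normalizer (X : Set G)) : X ≤ H := fun g hg => by
  by_contra h5
  obtain ⟨m, hm⟩ := h.odd_mul hy h2 (h.not_mem_conj hx h1 h5) (h1.conj g).2
  have h6 : x⁻¹ * g * x * g⁻¹ ∈ X := X.mul_mem (conj_mem_of_le_normalizer' le_rfl nx hg) (X.inv_mem hg)
  obtain ⟨w, hw, e⟩ := pow_mul_mem ((normalizer (X : Set G)).mul_mem ny nx) h6 (2 * m + 1)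
  have h7 : y * x * (y * x) = 1 := by
    rw [show y * x * (y * x) = y * (x * y) * x by group, h4, show y * (y * x) * x = y * y * (x * x) by group, h1.2, h2.2,
      one_mul]
  rw [show y * x * (x⁻¹ * g * x * g⁻¹) = y * (g * x * g⁻¹) by group, ← hm, pow_orderOf_eq_one, hm, pow_succ, pow_mul,
    pow_two, h7, one_pow, one_mul, eq_comm, mul_eq_one_iff_eq_inv] at e
  have h8 : Inv (y * x) := ⟨fun e => h3 (by rw [← h2.inv, eq_comm, inv_eq_iff_mul_eq_one, e]), h7⟩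
  exact Nat.not_even_iff_odd.2 hX (even_iff_two_dvd.2 (even_of_inv (e ▸ X.inv_mem hw) h8))

theorem Emb.exists_comm [Finite G] {H : Subgroup G} (h : Emb H) {x y : G} (h1 : Inv x) (h2 : Inv y) (h3 : x ≠ y)
    (h4 : x * y = y * x) : ∃ x ∈ H, ∃ y ∈ H, Inv x ∧ Inv y ∧ x ≠ y ∧ x * y = y * x := by
  obtain ⟨s, hs, h5⟩ := h.ex
  obtain ⟨g, rfl⟩ := h.conj_inv h1 h5
  have e : g * y * g⁻¹ * (g * x * g⁻¹) = g * x * g⁻¹ * (g * y * g⁻¹) := by
    rw [show g * y * g⁻¹ * (g * x * g⁻¹) = g * (y * x) * g⁻¹ by group, ← h4]; group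
  exact ⟨_, hs, _, h.cent hs h5 e, h5, h2.conj g, fun e => h3 (mul_left_cancel (mul_right_cancel e)), e.symm⟩

theorem Emb.odd_core [Finite G] {H : Subgroup G} (h : Emb H) : Odd (Nat.card H.normalCore) :=
  odd_of_no_inv fun s hs h1 => h.ne ((eq_top_iff' _).2 fun g =>
    h.ti s (H.normalCore_le hs) h1 g (H.normalCore_le (H.normalCore_normal.conj_mem s hs g)))

section
variable {Ω : Type*} [MulAction G Ω] {a : Ω} {t : G} {Q : Subgroup G}

theorem mem_stab_t (ht : t * t = 1) {x : G} : x ∈ stabilizer G (t • a) ↔ t * x * t ∈ stabilizer G a := by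
  rw [mem_stabilizer_iff, mem_stabilizer_iff, mul_smul, mul_smul]
  constructor
  · intro h; rw [h, ← mul_smul, ht, one_smul]
  · intro h; conv_rhs => rw [← h, ← mul_smul, ht, one_smul]

theorem DD_stab (ht : t * t = 1) : stabilizer G a ⊓ stabilizer G (t • a) = DD (stabilizer G a) t := by
  ext x; rw [mem_DD ht, mem_inf, mem_stab_t ht]

theorem invBy_eq {H : Subgroup G} (ht : t * t = 1) : Cfsg.invertedBy (DD H t) t = KK H t := by
  ext x
  simp only [Cfsg.invertedBy, Set.mem_setOf_eq, inv_eq_self ht]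
  exact ⟨fun h => ⟨DD_le h.1, h.2⟩, fun h => ⟨KK.mem ht h, h.2⟩⟩

theorem two_trans (hS : Cfsg.IsRankOneSetup G Ω a t Q) {b c : Ω} (hb : b ≠ a) (hc : c ≠ a) :
    ∃ g ∈ stabilizer G a, g • b = c := by
  obtain ⟨g, h1, h2⟩ := is_two_pretransitive_iff.1 hS.two_transitive hb.symm hc.symm
  exact ⟨g, h1, h2⟩

theorem ta_ne (hS : Cfsg.IsRankOneSetup G Ω a t Q) : t • a ≠ a := hS.not_mem

theorem r1_of [Finite G] (hS : Cfsg.IsRankOneSetup G Ω a t Q) : R1 (stabilizer G a) Q t := by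
  have ht := hS.mul_self
  have nm : stabilizer G a ≤ normalizer (Q : Set G) := le_normalizer_of_cj_le fun g hg x hx => by
    rw [mem_cj] at hx
    have := hS.conj_mem g hg _ hx
    simpa [mul_assoc] using this
  have dec : ∀ h ∈ stabilizer G a, ∃ x ∈ Q, ∃ d ∈ DD (stabilizer G a) t, h = x * d := fun h hh => by
    rw [← hS.sup_eq, DD_stab ht] at hh
    obtain ⟨x, hx, d, hd, e⟩ := (mem_sup_of_le_normalizer' (DD_le.trans nm)).1 hh
    exact ⟨x, hx, d, hd, e.symm⟩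
  refine ⟨ht, hS.not_mem, hS.le, nm, fun x hx h1 => ?_, dec, even_iff_two_dvd.1 hS.even_card, ?_, fun g hg => ?_⟩
  · have : x ∈ Q ⊓ stabilizer G (t • a) := ⟨hx, (mem_stab_t ht).2 h1⟩
    rwa [hS.inf_eq_bot] at this
  · rw [← DD_stab ht]; exact hS.odd_card
  · have hg' : g⁻¹ • a ≠ a := fun e => hg (by simpa using (stabilizer G a).inv_mem e)
    obtain ⟨h, hh, e⟩ := two_trans hS (ta_ne hS) hg'
    obtain ⟨x, hx, d, hd, rfl⟩ := dec h hh
    have hd' : d • t • a = t • a := by rw [← DD_stab ht] at hd; exact hd.2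
    rw [mul_smul, hd'] at e
    refine ⟨g * x * t, ?_, x⁻¹, Q.inv_mem hx, by simp only [mul_assoc, tt_cancel ht, mul_inv_cancel, mul_one]⟩
    rw [mem_stabilizer_iff, mul_smul, mul_smul, e, smul_inv_smul]

theorem r2_of [Finite G] (hS : Cfsg.IsRankOneSetup G Ω a t Q)
    (h2 : ∃ x y : G, x ≠ 1 ∧ y ≠ 1 ∧ x ≠ y ∧ x * x = 1 ∧ y * y = 1 ∧ x * y = y * x) : R2 (stabilizer G a) Q t := by
  obtain ⟨x, y, h1, h2, h3, h4, h5, h6⟩ := h2
  exact ⟨r1_of hS, (r1_of hS).emb.two_of ⟨h1, h4⟩ ⟨h2, h5⟩ h3 h6⟩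

theorem exists_Q [Finite G] (hS : Cfsg.IsRankOneSetup G Ω a t Q) {b : Ω} (hb : b ≠ a) : ∃ y ∈ Q, y • t • a = b := by
  obtain ⟨h, hh, e⟩ := two_trans hS (ta_ne hS) hb
  obtain ⟨x, hx, d, hd, rfl⟩ := (r1_of hS).dec h hh
  have hd' : d • t • a = t • a := by rw [← DD_stab hS.mul_self] at hd; exact hd.2
  exact ⟨x, hx, by rwa [mul_smul, hd'] at e⟩

theorem Q_inj [Finite G] (hS : Cfsg.IsRankOneSetup G Ω a t Q) {x y : G} (hx : x ∈ Q) (hy : y ∈ Q)
    (e : x • t • a = y • t • a) : x = y := by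
  have : y⁻¹ * x ∈ Q ⊓ stabilizer G (t • a) := ⟨Q.mul_mem (Q.inv_mem hy) hx, mem_stabilizer_iff.2 (by
    rw [mul_smul, e, inv_smul_smul])⟩
  rw [hS.inf_eq_bot, mem_bot, inv_mul_eq_one] at this
  exact this.symm

/-- a third fixed point gives a centralized element of `Q` -/
theorem exists_cent [Finite G] (hS : Cfsg.IsRankOneSetup G Ω a t Q) {X : Set G}
    (hX : ∀ x ∈ X, x ∈ DD (stabilizer G a) t)
    (h3 : ∃ b c d : Ω, b ≠ c ∧ b ≠ d ∧ c ≠ d ∧ ∀ x ∈ X, x • b = b ∧ x • c = c ∧ x • d = d) :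
    ∃ y ∈ Q, y ≠ 1 ∧ ∀ x ∈ X, x * y = y * x := by
  obtain ⟨e, e1, e2, e3⟩ : ∃ e : Ω, e ≠ a ∧ e ≠ t • a ∧ ∀ x ∈ X, x • e = e := by
    obtain ⟨b, c, d, h1, h2, h3, h4⟩ := h3
    by_cases hb : b ≠ a ∧ b ≠ t • a
    · exact ⟨b, hb.1, hb.2, fun x hx => (h4 x hx).1⟩
    by_cases hc : c ≠ a ∧ c ≠ t • a
    · exact ⟨c, hc.1, hc.2, fun x hx => (h4 x hx).2.1⟩
    refine ⟨d, ?_, ?_, fun x hx => (h4 x hx).2.2⟩ <;> grind
  obtain ⟨y, hy, rfl⟩ := exists_Q hS e1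
  refine ⟨y, hy, fun h => e2 (by rw [h, one_smul]), fun x hx => ?_⟩
  have hd := hX x hx
  have hd' : x⁻¹ • t • a = t • a := by rw [← DD_stab hS.mul_self] at hd; exact (stabilizer G _).inv_mem hd.2
  have := Q_inj hS ((r1_of hS).cQ (DD_le hd) hy) hy (by rw [mul_smul, mul_smul, hd', e3 x hx])
  conv_rhs => rw [← this]
  group

theorem faithful_of [Finite G] [FaithfulSMul G Ω] (hS : Cfsg.IsRankOneSetup G Ω a t Q) {d : G}
    (hd : d ∈ DD (stabilizer G a) t) (h : ∀ y ∈ Q, d * y = y * d) : d = 1 := by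
  refine eq_of_smul_eq_smul (α := Ω) fun b => ?_
  rw [one_smul]
  by_cases hb : b = a
  · rw [hb]; exact hd.1
  obtain ⟨y, hy, rfl⟩ := exists_Q hS hb
  have hd' : d • t • a = t • a := by rw [← DD_stab hS.mul_self] at hd; exact hd.2
  rw [← mul_smul, h y hy, mul_smul, hd']

end
end SE
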