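/-
SE.Sub: compatible subgroups and quotients of a rank one set-up.
-/
import Cfsg.Agent.SE.Br

set_option autoImplicit false

namespace SE
open Subgroup H9
variable {G : Type*} [Group G]

theorem Emb.inv_cent [Finite G] {H : Subgroup G} (h : Emb H) {x u z : G} (hu : u * u = 1) (h1 : u * x * u = x⁻¹)
    (h2 : x * x ≠ 1) (hz : z ∈ H) (h3 : Inv z) (h4 : x * z = z * x) : u ∈ H := by
  by_contra h5
  have h6 := h.not_mem_conj hz h3 h5
  have h7 := (h3.conj u).2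
  obtain ⟨c, c1, c2, c3⟩ := exists_conj_of_odd h3 h7 (h.odd_mul hz h3 h6 h7)
  have h8 : x⁻¹ * z = z * x⁻¹ := (Commute.inv_left h4 :)
  have h9 := c3 x h4 (by
    have e : u * x⁻¹ * u = x := by rw [← h1]; simp only [mul_assoc, tt_cancel hu, hu, mul_one]
    rw [inv_eq_self hu]
    conv_lhs => rw [← e]
    conv_rhs => rw [← e]
    simp only [mul_assoc, tt_cancel hu]
    rw [← mul_assoc z, ← h8, mul_assoc])
  rw [h.conj_unique hz h3 h6 c1.2 hu c2 (by rw [inv_eq_self hu])] at h9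
  apply h2
  rw [← h9, mul_assoc, hu, mul_one] at h1
  nth_rewrite 1 [h1]; exact inv_mul_cancel x

theorem R2.Q0_comm {H Q : Subgroup G} {t : G} [Finite G] (h : R2 H Q t) {x y : G} (hx : x ∈ H) (h1 : x * x = 1)
    (hy : y ∈ H) (h2 : y * y = 1) : x * y * (x * y) = 1 :=
  Q0_sq (mul_mem (h.mem_Q0 hx h1) (h.mem_Q0 hy h2))

/-- strongly real elements have odd centralizers -/
theorem R2.odd_cent {H Q : Subgroup G} {t : G} [Finite G] (h : R2 H Q t) {x u : G} (hu : u * u = 1)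
    (h1 : u * x * u = x⁻¹) (h2 : x * x ≠ 1) : Odd (Nat.card (centralizer {x})) := by
  refine odd_of_no_inv fun z hz h3 => ?_
  obtain ⟨s, hs, h4⟩ := h.emb.ex
  obtain ⟨g, rfl⟩ := h.emb.conj_inv h3 h4
  have hz' := mem_centralizer_singleton_iff.1 hz
  have e1 : g * u * g⁻¹ * (g * u * g⁻¹) = 1 := by rw [show g * u * g⁻¹ * (g * u * g⁻¹) = g * (u * u) * g⁻¹ by group, hu]; group
  have e2 : g * u * g⁻¹ * (g * x * g⁻¹) * (g * u * g⁻¹) = (g * x * g⁻¹)⁻¹ := by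
    rw [show g * u * g⁻¹ * (g * x * g⁻¹) * (g * u * g⁻¹) = g * (u * x * u) * g⁻¹ by group, h1]; group
  have e3 : g * x * g⁻¹ * (g * x * g⁻¹) ≠ 1 := fun e => h2 (by
    rw [show x * x = g⁻¹ * (g * x * g⁻¹ * (g * x * g⁻¹)) * g by group, e]; group)
  have e4 : g * x * g⁻¹ * (g * z * g⁻¹) = g * z * g⁻¹ * (g * x * g⁻¹) := by
    rw [show g * x * g⁻¹ * (g * z * g⁻¹) = g * (x * z) * g⁻¹ by group, ← hz']; group
  generalize g * u * g⁻¹ = u at *; generalize g * x * g⁻¹ = x at *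
  have h5 := h.emb.inv_cent e1 e2 e3 hs h4 e4
  have := h.Q0_comm h5 e1 (mul_mem h5 (h.emb.cent hs h4 e4)) (by rw [← mul_assoc, e2, inv_mul_cancel])
  rw [tt_cancel e1] at this
  exact e3 this

theorem R1.conj_t {H Q : Subgroup G} {t : G} (h : R1 H Q t) {u : G} (hu : u ∉ H) (h1 : u * u = 1) :
    ∃ g ∈ H, g * u * g⁻¹ = t := by
  obtain ⟨k, hk, y, hy, rfl⟩ := h.inv_out hu h1
  obtain ⟨a, ha, rfl, -⟩ := h.K_sqrt hk
  refine ⟨a⁻¹ * y, mul_mem (inv_mem ha.1) (h.le hy), ?_⟩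
  rw [mul_assoc a a t, KK.kt h.tt ha]; group

theorem Emb.exists_inv_coset [Finite G] {H : Subgroup G} (h : Emb H) {c : G} (hc : c ∉ H) :
    ∃ t, Inv t ∧ t⁻¹ * c ∈ H := by
  obtain ⟨z, hz, h1⟩ := h.ex
  obtain ⟨t, t1, t2, -⟩ := exists_conj_of_odd h1 (h1.conj c).2 (h.odd_mul hz h1 (h.not_mem_conj hz h1 hc) (h1.conj c).2)
  refine ⟨t, t1, h.cent hz h1 ?_⟩
  rw [show t⁻¹ * c * z = t⁻¹ * (c * z * c⁻¹) * c by group, ← t2, t1.inv]
  simp only [mul_assoc, t1.cancel]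

/-- `C` is compatible with the set-up -/
structure Good (H Q : Subgroup G) (t : G) (C : Subgroup G) : Prop where
  tC : t ∈ C
  dec : ∀ x ∈ Q, ∀ d ∈ DD H t, x * d ∈ C → x ∈ C
  bru : ∀ x ∈ H, ∀ y ∈ Q, x * t * y ∈ C → y ∈ C
  even : 2 ∣ Nat.card (Q ⊓ C : Subgroup G)

theorem Good.of_le {H Q C : Subgroup G} {t : G} (h : R1 H Q t) (h1 : t ∈ C) (h2 : Q ≤ C) : Good H Q t C :=
  ⟨h1, fun _ hx _ _ _ => h2 hx, fun _ _ _ hy _ => h2 hy, by rw [inf_eq_left.2 h2]; exact h.even⟩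

namespace R1
variable {H Q : Subgroup G} {t : G} (h : R1 H Q t)
include h

theorem cent_dec {x d c c' : G} (hx : x ∈ Q) (hd : d ∈ DD H t) (hc : c ∈ DD H t) (hc' : c' ∈ DD H t)
    (e : x * d * c = c' * (x * d)) : c' * x = x * c' ∧ d * c = c' * d := by
  obtain ⟨e1, e2⟩ := h.uniqQD hx ((DD H t).mul_mem hd hc) (h.cQ (DD_le hc') hx) ((DD H t).mul_mem hc' hd)
    (by rw [← mul_assoc, e]; group)
  exact ⟨by conv_rhs => rw [e1]
            group, e2⟩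

theorem cent_bru {x y c c' : G} (hx : x ∈ H) (hy : y ∈ Q) (hc : c ∈ DD H t) (hc' : c' ∈ H)
    (e : x * t * y * c = c' * (x * t * y)) : c * y = y * c ∧ x * (t * c * t) = c' * x := by
  obtain ⟨e1, e2⟩ := h.uniq (H.mul_mem hx (DD_le (h.tD hc))) (h.cQ' (DD_le hc) hy) (H.mul_mem hc' hx) hy
    (by rw [mul_assoc c', mul_assoc c', ← e]; simp only [mul_assoc, h.tc, mul_inv_cancel_left])
  exact ⟨by conv_lhs => rw [← e2]
            group, e1⟩

theorem good_cent [Finite G] {X : Set G} (hX : ∀ x ∈ X, x ∈ VV H t) : Good H Q t (centralizer X) := by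
  refine ⟨mem_centralizer_iff.2 fun x hx => (mem_VV.1 (hX x hx)).2, fun x hx d hd e => mem_centralizer_iff.2 fun c hc => ?_,
    fun x hx y hy e => mem_centralizer_iff.2 fun c hc => ?_, ?_⟩
  · exact (h.cent_dec hx hd (VV_le (hX c hc)) (VV_le (hX c hc)) (mem_centralizer_iff.1 e c hc).symm).1
  · exact (h.cent_bru hx hy (VV_le (hX c hc)) (DD_le (VV_le (hX c hc))) (mem_centralizer_iff.1 e c hc).symm).1
  · obtain ⟨s, r, hs⟩ := h.exists_SR
    exact even_of_inv (s := s) ⟨h.invQ hs.1 hs.2.1.2, mem_centralizer_iff.2 fun c hc => (h.SR_V hs (hX c hc)).1⟩ hs.2.1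

theorem good_norm [Finite G] {X : Subgroup G} (hX : X ≤ VV H t) : Good H Q t (normalizer (X : Set G)) := by
  have h1 := h.good_cent (X := X) hX
  have h2 := centralizer_le_normalizer' X
  refine ⟨h2 h1.tC, fun x hx d hd e => h2 (mem_centralizer_iff.2 fun c hc => ?_),
    fun x hx y hy e => h2 (mem_centralizer_iff.2 fun c hc => ?_), h1.even.trans (card_dvd_of_le (inf_le_inf_left _ h2))⟩
  · exact (h.cent_dec hx hd (VV_le (hX (conj_mem_of_le_normalizer' le_rfl e hc))) (VV_le (hX hc)) (by group)).1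
  · exact (h.cent_bru hx hy (VV_le (hX hc)) (DD_le (VV_le (hX (conj_mem_of_le_normalizer le_rfl e hc)))) (by group)).1

section
variable {C : Subgroup G} (hC : Good H Q t C) {Γ : Type*} [Group Γ] {f : C →* Γ} (hk : kr f ≤ DD H t)
include hk

omit h in
theorem mem_im_iff {K : Subgroup G} (hK : DD H t ≤ K) {x : C} : f x ∈ im f K ↔ (x : G) ∈ K := by
  refine ⟨fun h1 => ?_, fun h1 => (mem_im f).2 ⟨x, h1, rfl⟩⟩
  obtain ⟨y, hy, e⟩ := (mem_im f).1 h1
  have : ((y⁻¹ * x : C) : G) ∈ kr f := (coe_mem_kr f).2 (by simp [e])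
  simpa using K.mul_mem hy (hK (hk this))

theorem eq_of_im {x y : C} (hx : (x : G) ∈ Q) (hy : (y : G) ∈ Q) (e : f x = f y) : x = y := by
  have : ((y⁻¹ * x : C) : G) ∈ kr f := (coe_mem_kr f).2 (by simp [e])
  have h2 := h.QD (Q.mul_mem (Q.inv_mem hy) hx) (hk this)
  exact Subtype.ext (inv_mul_eq_one.1 h2).symm

theorem card_im_Q [Finite G] {K : Subgroup G} (hK : K ≤ Q) : Nat.card (im f K) = Nat.card (K ⊓ C : Subgroup G) := by
  rw [← im_inf_self, card_im_of_disjoint f inf_le_right]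
  exact eq_bot_iff.2 fun x hx => h.QD (hK hx.2.1) (hk hx.1)

include hC

theorem DD_im : DD (im f H) (f ⟨t, hC.tC⟩) = im f (DD H t) := by
  have tt : f ⟨t, hC.tC⟩ * f ⟨t, hC.tC⟩ = 1 := by rw [← map_mul]; exact (congrArg f (Subtype.ext h.tt)).trans f.map_one
  ext y
  rw [mem_DD tt]
  constructor
  · rintro ⟨h1, h2⟩
    obtain ⟨x, hx, rfl⟩ := (mem_im f).1 h1
    rw [← map_mul, ← map_mul, mem_im_iff hk DD_le] at h2
    exact (mem_im f).2 ⟨x, h.memD.2 ⟨hx, h2⟩, rfl⟩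
  · intro h1
    obtain ⟨x, hx, rfl⟩ := (mem_im f).1 h1
    rw [← map_mul, ← map_mul, mem_im_iff hk DD_le, mem_im_iff hk DD_le]
    exact h.memD.1 hx

theorem quot [Finite G] (hf : Function.Surjective f) : R1 (im f H) (im f Q) (f ⟨t, hC.tC⟩) := by
  refine ⟨by rw [← map_mul]; exact (congrArg f (Subtype.ext h.tt)).trans f.map_one, fun h1 => ?_, im_mono f h.le,
    im_le_normalizer f h.nm, fun y hy h1 => ?_, fun y hy => ?_, ?_, ?_, fun g hg => ?_⟩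
  · exact h.tH ((mem_im_iff hk DD_le).1 h1)
  · obtain ⟨x, hx, rfl⟩ := (mem_im f).1 hy
    rw [← map_mul, ← map_mul, mem_im_iff hk DD_le] at h1
    rw [show x = 1 from Subtype.ext (h.disj x hx h1), map_one]
  · obtain ⟨x, hx, rfl⟩ := (mem_im f).1 hy
    obtain ⟨a, ha, d, hd, e⟩ := h.dec x hx
    have h1 := hC.dec a ha d hd (e ▸ x.2)
    have h2 : d ∈ C := by simpa [e] using C.mul_mem (C.inv_mem h1) x.2
    rw [h.DD_im hC hk]
    exact ⟨f ⟨a, h1⟩, (mem_im f).2 ⟨_, ha, rfl⟩, f ⟨d, h2⟩, (mem_im f).2 ⟨_, hd, rfl⟩, by rw [← map_mul]; exact congrArg f (Subtype.ext e)⟩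
  · rw [h.card_im_Q hk le_rfl]; exact hC.even
  · rw [h.DD_im hC hk]; exact Odd.of_dvd_nat h.odd (card_im_dvd f _)
  · obtain ⟨x, rfl⟩ := hf g
    rw [mem_im_iff hk DD_le] at hg
    obtain ⟨a, ha, y, hy, e⟩ := h.bru x hg
    have h1 := hC.bru a ha y hy (e ▸ x.2)
    have h2 : a ∈ C := by simpa [e] using C.mul_mem (C.mul_mem x.2 (C.inv_mem h1)) (C.inv_mem hC.tC)
    exact ⟨f ⟨a, h2⟩, (mem_im f).2 ⟨_, ha, rfl⟩, f ⟨y, h1⟩, (mem_im f).2 ⟨_, hy, rfl⟩, by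
      rw [← map_mul, ← map_mul]; exact congrArg f (Subtype.ext e)⟩

end
end R1
end SE
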